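import Groth.Prelude.Def_CohB1
import Mathlib.RingTheory.MvPolynomial.Homogeneous
import Mathlib.RingTheory.GradedAlgebra.RingHom
import Mathlib.RingTheory.Ideal.Quotient.Operations

/-!
# Restricting polynomials to a hyperplane
-/

universe u

open MvPolynomial

namespace Groth.Agent.Hyperplane18

variable (k : Type u) [Field k] (n : ℕ)

/-- A nonzero linear form is the kernel of a surjective graded map to a polynomial ring in one variable less. -/
theorem exists_subst (ℓ : MvPolynomial (Fin (n + 2)) k) (hℓ : ℓ ∈ CohB1.polyGrading (n + 1) k 1) (h0 : ℓ ≠ 0) :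
    ∃ φ : CohB1.polyGrading (n + 1) k →+*ᵍ CohB1.polyGrading n k,
      Function.Surjective φ ∧ (∀ a, φ a = 0 ↔ ℓ ∣ a) ∧ ∀ i, X i ∈ Set.range fun m => φ (X m) := by
  have hspan : ℓ ∈ Submodule.span k (Set.range (X : Fin (n + 2) → MvPolynomial (Fin (n + 2)) k)) := by
    rw [← MvPolynomial.homogeneousSubmodule_one_eq_span_X]; exact hℓ
  obtain ⟨c, hc⟩ := (Submodule.mem_span_range_iff_exists_fun k).1 hspan
  obtain ⟨j, hj⟩ : ∃ j, c j ≠ 0 := by
    by_contra h
    push Not at h
    exact h0 (hc.symm.trans (Finset.sum_eq_zero fun i _ => by rw [h i, zero_smul]))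
  let g : Fin (n + 2) → MvPolynomial (Fin (n + 1)) k :=
    Fin.insertNth j (∑ i, (-(c (j.succAbove i)) / c j) • X i) fun i => X i
  have hg : ∀ m, (g m).IsHomogeneous 1 := fun m => by
    refine Fin.succAboveCases j ?_ (fun i => ?_) m
    · simp only [g, Fin.insertNth_apply_same]
      exact IsHomogeneous.sum _ _ _ fun i _ => by
        rw [smul_eq_C_mul]; exact IsHomogeneous.C_mul (isHomogeneous_X k i) _
    · simp only [g, Fin.insertNth_apply_succAbove]
      exact isHomogeneous_X k i
  let f : MvPolynomial (Fin (n + 2)) k →ₐ[k] MvPolynomial (Fin (n + 1)) k := aeval g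
  let σ : MvPolynomial (Fin (n + 1)) k →ₐ[k] MvPolynomial (Fin (n + 2)) k := aeval fun i => X (j.succAbove i)
  have hfj : ∀ i, f (X (j.succAbove i)) = X i := fun i => by simp [f, g]
  have hfσ : ∀ b, f (σ b) = b := fun b => by
    have : f.comp σ = AlgHom.id k _ := MvPolynomial.algHom_ext fun i => by simp [σ, hfj]
    exact congrArg (fun h : MvPolynomial (Fin (n + 1)) k →ₐ[k] MvPolynomial (Fin (n + 1)) k => h b) this
  refine ⟨{ f.toRingHom with map_mem := fun {i a} ha => ?_ }, fun b => ⟨σ b, hfσ b⟩, fun a => ?_,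
    fun i => ⟨j.succAbove i, hfj i⟩⟩
  · show f a ∈ CohB1.polyGrading n k i
    rw [CohB1.polyGrading, mem_homogeneousSubmodule] at ha ⊢
    simpa using ha.aeval g hg
  show f a = 0 ↔ _
  have hℓ0 : f ℓ = 0 := by
    rw [← hc, Fin.sum_univ_succAbove _ j, map_add, map_sum]
    simp only [map_smul, hfj]
    simp only [f, g, aeval_X, Fin.insertNth_apply_same, Finset.smul_sum, smul_smul]
    rw [← Finset.sum_add_distrib]
    refine Finset.sum_eq_zero fun i _ => ?_
    rw [← add_smul, mul_div_cancel₀ _ hj, neg_add_cancel, zero_smul]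
  refine ⟨fun ha => ?_, fun ⟨q, hq⟩ => by rw [hq, map_mul, hℓ0, zero_mul]⟩
  let I : Ideal (MvPolynomial (Fin (n + 2)) k) := Ideal.span {ℓ}
  have key : ((Ideal.Quotient.mkₐ k I).comp σ).comp f = Ideal.Quotient.mkₐ k I := by
    refine MvPolynomial.algHom_ext fun m => Fin.succAboveCases j ?_ (fun i => ?_) m
    · refine Ideal.Quotient.eq.2 ?_
      show σ (f (X j)) - X j ∈ I
      rw [show f (X j) = ∑ i, (-(c (j.succAbove i)) / c j) • X i by simp [f, g], map_sum]
      simp only [map_smul, σ, aeval_X]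
      refine Ideal.mem_span_singleton.2 ⟨C (-(c j)⁻¹), ?_⟩
      rw [← hc, Fin.sum_univ_succAbove _ j, mul_comm, C_mul', smul_add, Finset.smul_sum, smul_smul,
        show -(c j)⁻¹ * c j = -1 by rw [neg_mul, inv_mul_cancel₀ hj], neg_one_smul,
        sub_eq_add_neg, add_comm (-X j : MvPolynomial (Fin (n + 2)) k)]
      congr 1
      refine Finset.sum_congr rfl fun i _ => ?_
      rw [smul_smul]
      congr 1
      ring
    · simp [hfj, σ]
  have := congrArg (fun h : MvPolynomial (Fin (n + 2)) k →ₐ[k] _ ⧸ I => h a) key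
  simp only [AlgHom.comp_apply, ha, map_zero] at this
  exact Ideal.mem_span_singleton.1 (Ideal.Quotient.eq_zero_iff_mem.1 this.symm)

end Groth.Agent.Hyperplane18
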