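import Groth.Agent.Lib.Twist.GlobalProjSpace
import Groth.Agent.Lib.Twist.QCoh
import Groth.Agent.Lib.EGA2.ProjMap
import Groth.Agent.Lib.ProjSpace.Basic
import Groth.Prelude.Def_PicF2
import Groth.Prelude.Def_Twist2

/-!
# The zero scheme of a linear form
-/

set_option autoImplicit false

universe u

open CategoryTheory Limits AlgebraicGeometry TopologicalSpace Opposite HomogeneousLocalization

namespace Groth.Agent.Hyperplane18

attribute [local instance] MvPolynomial.gradedAlgebra

variable (k : Type u) [Field k] (N : ℕ)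

local notation "GR" => CohB1.polyGrading N k
local notation "R" => MvPolynomial (Fin (N + 1)) k

theorem mk_one_mul_cancel (x : ProjectiveSpectrum GR) {ℓ : R} (hℓ : ℓ ≠ 0) {p q : _root_.Twist.Loc GR x}
    (h : p * Localization.mk ℓ ⟨1, Twist.one_notMem_prime GR x⟩ = q * Localization.mk ℓ ⟨1, Twist.one_notMem_prime GR x⟩) :
    p = q := by
  haveI := x.isPrime
  haveI : IsDomain (_root_.Twist.Loc GR x) :=
    IsLocalization.isDomain_of_le_nonZeroDivisors _ (Ideal.primeCompl_le_nonZeroDivisors x.asHomogeneousIdeal.toIdeal)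
  refine mul_right_cancel₀ (fun h0 => hℓ ?_) h
  rw [← Localization.mk_zero (⟨1, Twist.one_notMem_prime GR x⟩ : x.asHomogeneousIdeal.toIdeal.primeCompl),
    Localization.mk_eq_mk_iff, Localization.r_iff_exists] at h0
  obtain ⟨w, hw⟩ := h0
  have hw0 : (w : R) ≠ 0 := fun e => w.2 (e ▸ zero_mem x.asHomogeneousIdeal.toIdeal)
  have : (w : R) * ℓ = 0 := by simpa using hw
  exact (mul_eq_zero.1 this).resolve_left hw0

/-- The linear form defining a section of `O(1)`. -/
theorem exists_linearForm (s : Coh.structureModule (Proj GR) ⟶ _root_.Twist.twist GR 1) (hs : s ≠ 0) :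
    ∃ ℓ ∈ GR 1, ℓ ≠ 0 ∧ ∀ (U : (Proj GR).Opens) (x : ProjectiveSpectrum GR) (hx : x ∈ U),
      Twist.val (n := (1 : ℤ)) (PicF2.secVal _ s U) x hx = Localization.mk ℓ ⟨1, Twist.one_notMem_prime GR x⟩ := by
  obtain ⟨⟨ℓ, hℓ⟩, he⟩ := (Twist.globalOf_bijective_polyGrading N k 1).2 (PicF2.secVal _ s ⊤)
  have hnat : ∀ U : (Proj GR).Opens,
      PicF2.secVal _ s U = M1.mres (_root_.Twist.twist GR 1) (le_top : U ≤ ⊤) (PicF2.secVal _ s ⊤) := fun U => by
    have h1 := congr($(s.mapPresheaf.naturality (homOfLE (le_top : U ≤ ⊤)).op) (1 : Γ(Proj GR, ⊤)))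
    refine Eq.trans ?_ h1
    exact congrArg (s.app U) (map_one ((Proj GR).presheaf.map (homOfLE (le_top : U ≤ ⊤)).op).hom).symm
  have hval : ∀ (U : (Proj GR).Opens) (x : ProjectiveSpectrum GR) (hx : x ∈ U),
      Twist.val (n := (1 : ℤ)) (PicF2.secVal _ s U) x hx = Localization.mk ℓ ⟨1, Twist.one_notMem_prime GR x⟩ :=
    fun U x hx => by
      rw [hnat U, ← he]
      rfl
  refine ⟨ℓ, hℓ, fun h0 => hs ?_, hval⟩
  have hz : ∀ U, PicF2.secVal _ s U = 0 := fun U => Twist.sec_ext fun x hx => by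
    rw [hval, h0, Localization.mk_zero]
    rfl
  refine Scheme.Modules.hom_ext _ _ fun U => AddCommGrpCat.hom_ext (AddMonoidHom.ext fun r => ?_)
  show s.app U r = 0
  have e : r = (show Γ(Proj GR, U) from r) • (show Γ(Coh.structureModule (Proj GR), U) from (1 : Γ(Proj GR, U))) :=
    (mul_one (show Γ(Proj GR, U) from r)).symm
  rw [e, Scheme.Modules.Hom.app_smul]
  refine Twist.sec_ext fun x hx => (Twist.val_smul _ _ x hx).trans ?_
  exact (congrArg (_ * ·) (congrArg (fun t => Twist.val (n := (1 : ℤ)) t x hx) (hz U))).trans (mul_zero _)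

variable {ℓ : MvPolynomial (Fin (N + 1)) k} (hℓ : ℓ ∈ CohB1.polyGrading N k 1)

/-- `ℓ / X i`. -/
noncomputable def dehom (hℓ : ℓ ∈ CohB1.polyGrading N k 1) (i : Fin (N + 1)) : Γ(Proj GR, Proj.basicOpen GR (MvPolynomial.X i)) :=
  Proj.awayToSection GR (MvPolynomial.X i)
    (Away.mk GR (ProjSpace.X_mem' N k i) 1 ℓ (by rw [one_smul]; exact hℓ))

theorem valO_dehom (hℓ : ℓ ∈ CohB1.polyGrading N k 1) (i : Fin (N + 1)) (x : ProjectiveSpectrum GR) (hx : x ∈ Proj.basicOpen GR (MvPolynomial.X i)) :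
    Twist.valO (dehom k N hℓ i) x hx =
      Localization.mk ℓ ⟨(MvPolynomial.X i : R) ^ 1, Twist.pow_notMem GR hx 1⟩ :=
  Twist.valO_awayToSection GR (ProjSpace.X_mem' N k i) _ x hx _

variable {n : ℕ} (φ : CohB1.polyGrading N k →+*ᵍ CohB1.polyGrading n k)
  (hφ : HomogeneousIdeal.irrelevant (CohB1.polyGrading n k) ≤
    (HomogeneousIdeal.irrelevant (CohB1.polyGrading N k)).map φ)
  (hker : ∀ a, φ a = 0 ↔ ℓ ∣ a)

noncomputable abbrev chartOpen (i : Fin (N + 1)) : (Proj GR).affineOpens :=
  ⟨Proj.basicOpen GR (MvPolynomial.X i), Proj.isAffineOpen_basicOpen GR _ (ProjSpace.X_mem' N k i) Nat.one_pos⟩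

include hker in
theorem ker_chart [QuasiCompact (Proj.map φ hφ)] (i : Fin (N + 1)) :
    (Proj.map φ hφ).ker.ideal (chartOpen k N i) = Ideal.span {dehom k N hℓ i} := by
  classical
  have hX := ProjSpace.X_mem' N k i
  rw [Scheme.Hom.ker_apply]
  have happ : ∀ (m : ℕ) (a : R) (ha : a ∈ GR (m • 1)),
      (Proj.map φ hφ).app (Proj.basicOpen GR (MvPolynomial.X i))
          (Proj.awayToSection GR (MvPolynomial.X i) (Away.mk GR hX m a ha)) = 0 ↔
        ∃ e, φ ((MvPolynomial.X i) ^ e * a) = 0 := fun m a ha => by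
    have happ' := ConcreteCategory.congr_hom (Proj.awayToSection_comp_appLE φ hφ hX) (Away.mk GR hX m a ha)
    rw [Scheme.Hom.app_eq_appLE]
    erw [happ']
    refine (map_eq_zero_iff (Proj.awayToSection _ (φ (MvPolynomial.X i))).hom (ConcreteCategory.bijective_of_isIso
      (Proj.basicOpenIsoAway _ (φ (MvPolynomial.X i)) (φ.2 hX) Nat.one_pos).hom).1).trans ?_
    show Away.map φ (MvPolynomial.X i) (Away.mk GR hX m a ha) = 0 ↔ _
    rw [Away.map_mk, EGA2.away_mk_eq_zero_iff _ (φ.2 hX)]
    exact exists_congr fun e => by rw [map_mul, map_pow]; rfl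
  refine le_antisymm (fun y hy => ?_) (Ideal.span_le.2 (Set.singleton_subset_iff.2 ?_))
  · obtain ⟨z, rfl⟩ := (ConcreteCategory.bijective_of_isIso
      (Proj.basicOpenIsoAway GR _ hX Nat.one_pos).hom).2 y
    obtain ⟨m, a, ha, rfl⟩ := Away.mk_surjective GR hX z
    obtain ⟨e, he⟩ := (happ m a ha).1 hy
    have he' : φ ((MvPolynomial.X i) ^ (e + 1) * a) = 0 := by
      rw [pow_succ', mul_assoc, map_mul, he, mul_zero]
    obtain ⟨q, hq⟩ := (hker _).1 he'
    have hdeg : ((MvPolynomial.X i : R) ^ (e + 1) * a).IsHomogeneous (1 + (e + m)) := by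
      have h1 := SetLike.mul_mem_graded (SetLike.pow_mem_graded (e + 1) hX) ha
      rw [CohB1.polyGrading, MvPolynomial.mem_homogeneousSubmodule] at h1
      have ed : 1 + (e + m) = (e + 1) • 1 + m • 1 := by
        simp only [smul_eq_mul, mul_one]; omega
      rw [ed]
      exact h1
    -- replace `q` by its component of degree `e + m`
    let q' := (DirectSum.decompose GR q (e + m) : R)
    have hq' : ℓ * q' = (MvPolynomial.X i : R) ^ (e + 1) * a := by
      have h1 := DirectSum.coe_decompose_mul_add_of_left_mem GR (j := e + m) hℓ (b := q)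
      rw [← hq, DirectSum.decompose_of_mem_same GR ((MvPolynomial.mem_homogeneousSubmodule _ _).2 hdeg)] at h1
      exact h1.symm
    have hq'mem : q' ∈ GR ((e + m) • 1) := by
      rw [smul_eq_mul, mul_one]
      exact SetLike.coe_mem _
    refine Ideal.mem_span_singleton.2 ⟨Proj.awayToSection GR _ (Away.mk GR hX (e + m) q' hq'mem), ?_⟩
    refine Eq.trans (congrArg (Proj.awayToSection GR _) ?_) (map_mul _ _ _)
    refine HomogeneousLocalization.val_injective _ ?_
    rw [HomogeneousLocalization.val_mul, Away.val_mk, Away.val_mk, Away.val_mk, Localization.mk_mul,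
      Localization.mk_eq_mk_iff, Localization.r_iff_exists]
    refine ⟨1, ?_⟩
    simp only [OneMemClass.coe_one, one_mul, Submonoid.coe_mul]
    rw [hq', pow_add, pow_add]
    ring
  · show (Proj.map φ hφ).app _ (dehom k N hℓ i) = 0
    exact (happ 1 ℓ _).2 ⟨0, (hker _).2 ⟨1, by ring⟩⟩

theorem isSeparated_proj : (Proj GR).IsSeparated := by
  haveI : IsProper (CohB1.ProjSpace.toSpec N k) := ProjSpace.isProper_toSpec N k
  constructor
  have h : IsSeparated (CohB1.ProjSpace.toSpec N k ≫ terminal.from (Spec (CommRingCat.of k))) := by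
    haveI : IsSeparated (terminal.from (Spec (CommRingCat.of k))) := inferInstance
    exact MorphismProperty.comp_mem @IsSeparated _ _ inferInstance inferInstance
  rwa [terminal.comp_from] at h

theorem iSup_chartOpen : (⨆ i, (chartOpen k N i).1) = ⊤ := ProjSpace.iSup_basicOpen N k

/-- The generator `X i / 1` of `O(1)` on a chart. -/
noncomputable def genX (i : Fin (N + 1)) : Γ(_root_.Twist.twist GR 1, Proj.basicOpen GR (MvPolynomial.X i)) :=
  Twist.frac GR _ (ProjSpace.X_mem' N k i) SetLike.GradedOne.one_mem (by simp)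
    fun _ _ => Twist.one_notMem_prime GR _

theorem bijective_genX (i : Fin (N + 1)) (V : (Proj GR).Opens) (hV : V ≤ Proj.basicOpen GR (MvPolynomial.X i)) :
    Function.Bijective fun r : Γ(Proj GR, V) => r • M1.mres (_root_.Twist.twist GR 1) hV (genX k N i) :=
  Twist.bijective_smul_of_inverse (n := (1 : ℤ)) (U := Proj.basicOpen GR (MvPolynomial.X i)) (genX k N i)
    (Twist.frac GR _ SetLike.GradedOne.one_mem (ProjSpace.X_mem' N k i) (by simp) le_rfl)
    (fun x hx => by
      refine Eq.trans ?_ Localization.mk_one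
      show Localization.mk _ _ * Localization.mk _ _ = _
      rw [Localization.mk_mul, Localization.mk_eq_mk_iff, Localization.r_iff_exists]
      exact ⟨1, by simp⟩) V hV

include hker hℓ in
theorem ker_eq_zeroScheme [QuasiCompact (Proj.map φ hφ)]
    (s : Coh.structureModule (Proj GR) ⟶ _root_.Twist.twist GR 1) (hℓ0 : ℓ ≠ 0)
    (hval : ∀ (U : (Proj GR).Opens) (x : ProjectiveSpectrum GR) (hx : x ∈ U),
      Twist.val (n := (1 : ℤ)) (PicF2.secVal _ s U) x hx = Localization.mk ℓ ⟨1, Twist.one_notMem_prime GR x⟩) :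
    (Proj.map φ hφ).ker = PicF2.zeroScheme _ s := by
  have hgen : ∀ (i : Fin (N + 1)) x (hx : x ∈ Proj.basicOpen GR (MvPolynomial.X i)),
      Twist.valO (dehom k N hℓ i) x hx * Localization.mk (MvPolynomial.X i : R) ⟨1, Twist.one_notMem_prime GR x⟩ =
        Localization.mk ℓ ⟨1, Twist.one_notMem_prime GR x⟩ := fun i x hx => by
    rw [valO_dehom, Localization.mk_mul, Localization.mk_eq_mk_iff, Localization.r_iff_exists]
    exact ⟨1, by simp; ring⟩
  have hmulO : ∀ {W : (Proj GR).Opens} (p q : Γ(Proj GR, W)) (x : ProjectiveSpectrum GR) (hx : x ∈ W),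
      Twist.valO (p * q) x hx = Twist.valO p x hx * Twist.valO q x hx := fun p q x hx =>
    HomogeneousLocalization.val_mul _ _
  haveI := isSeparated_proj k N
  refine le_antisymm (Scheme.IdealSheafData.le_ofIdeals_iff.2 fun U a ha m => ?_) ?_
  · let W : Fin (N + 1) → (Proj GR).affineOpens := fun i =>
      ⟨U.1 ⊓ (chartOpen k N i).1, U.2.inf (chartOpen k N i).2⟩
    have h1 : ∀ i, (Proj GR).presheaf.map (homOfLE (show (W i).1 ≤ U.1 from inf_le_left)).op a ∈
        Ideal.span {(Proj GR).presheaf.map (homOfLE (show (W i).1 ≤ (chartOpen k N i).1 from inf_le_right)).op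
          (dehom k N hℓ i)} := fun i => by
      have h := (Proj.map φ hφ).ker.ideal_le_comap_ideal (U := W i) (V := U)
        (show (W i).1 ≤ U.1 from inf_le_left) ha
      rw [Ideal.mem_comap, ← (Proj.map φ hφ).ker.map_ideal (U := W i) (V := chartOpen k N i)
        (show (W i).1 ≤ (chartOpen k N i).1 from inf_le_right), ker_chart k N hℓ φ hφ hker i, Ideal.map_span,
        Set.image_singleton] at h
      exact h
    choose r hr using fun i => Ideal.mem_span_singleton.1 (h1 i)
    choose c hc using fun i => (bijective_genX k N i (W i).1 inf_le_right).2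
      (M1.mres (_root_.Twist.twist GR 1) (show (W i).1 ≤ U.1 from inf_le_left) m)
    have key : ∀ i x (hx : x ∈ (W i).1),
        Twist.valO a x hx.1 * Twist.val (n := (1 : ℤ)) m x hx.1 =
          Twist.valO (r i * c i) x hx * Localization.mk ℓ ⟨1, Twist.one_notMem_prime GR x⟩ := fun i x hx => by
      have e1 : Twist.valO a x hx.1 = Twist.valO (dehom k N hℓ i) x hx.2 * Twist.valO (r i) x hx := by
        have := congrArg (fun t => Twist.valO t x hx) (hr i)
        exact this.trans (hmulO _ _ x hx)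
      have e2 : Twist.valO (c i) x hx * Localization.mk (MvPolynomial.X i : R) ⟨1, Twist.one_notMem_prime GR x⟩ =
          Twist.val (n := (1 : ℤ)) m x hx.1 := by
        have := congrArg (fun t => Twist.val (n := (1 : ℤ)) t x hx) (hc i)
        exact (Twist.val_smul _ _ x hx).symm.trans this
      rw [e1, ← e2, hmulO, ← hgen i x hx.2]
      ring
    have hcompat : TopCat.Presheaf.IsCompatible (Proj GR).presheaf (fun i => (W i).1) (fun i => r i * c i) := by
      intro i j
      refine Twist.sectionO_ext fun x hx => mk_one_mul_cancel k N x hℓ0 ?_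
      exact (key i x hx.1).symm.trans (key j x hx.2)
    obtain ⟨b, hb, -⟩ := (Proj GR).sheaf.existsUnique_gluing' (fun i => (W i).1) U.1
      (fun i => homOfLE inf_le_left)
      (fun x hx => by
        have hx' : x ∈ (⨆ i, (chartOpen k N i).1) := by rw [iSup_chartOpen]; trivial
        obtain ⟨i, hi⟩ := TopologicalSpace.Opens.mem_iSup.1 hx'
        exact TopologicalSpace.Opens.mem_iSup.2 ⟨i, hx, hi⟩)
      (fun i => r i * c i) hcompat
    refine ⟨b, Twist.sec_ext fun x hx => ?_⟩
    have hx' : x ∈ (⨆ i, (chartOpen k N i).1) := by rw [iSup_chartOpen]; trivial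
    obtain ⟨i, hi⟩ := TopologicalSpace.Opens.mem_iSup.1 hx'
    refine (Twist.val_smul _ _ x hx).trans (Eq.trans ?_ (Twist.val_smul _ _ x hx).symm)
    have hxi : x ∈ (W i).1 := ⟨hx, hi⟩
    refine (key i x hxi).trans ?_
    rw [hval U.1 x hx]
    exact congrArg (· * _) (congrArg (fun t => Twist.valO t x hxi) (hb i)).symm
  · refine Scheme.IdealSheafData.le_of_iSup_eq_top (fun i => chartOpen k N i) (iSup_chartOpen k N) fun i y hy => ?_
    have h := Scheme.IdealSheafData.ideal_ofIdeals_le _ (chartOpen k N i) hy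
    obtain ⟨b, hb⟩ := h (genX k N i)
    rw [ker_chart k N hℓ φ hφ hker i, Ideal.mem_span_singleton']
    refine ⟨b, Twist.sectionO_ext fun x hx => ?_⟩
    have h2 := congrArg (fun t => Twist.val (n := (1 : ℤ)) t x hx) hb
    replace h2 := ((Twist.val_smul _ _ x hx).symm.trans h2).trans (Twist.val_smul _ _ x hx)
    rw [hval (chartOpen k N i).1 x hx, ← hgen i x hx] at h2
    rw [hmulO]
    refine mk_one_mul_cancel k N x (MvPolynomial.X_ne_zero i) ?_
    rw [mul_assoc]
    exact h2.symm

end Groth.Agent.Hyperplane18
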