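import Groth.Agent.Lib.PullBC11.Crit
import Groth.Agent.Lib.PullBC11.Twist
import Groth.Agent.Lib.GrTw11.Invertible
import Groth.Agent.Lib.GrTw11.QCoh

/-!
# `O(1)` pulls back to `O(1)` under maps of graded rings, the source being covered in degree one
-/

set_option autoImplicit false
set_option linter.style.haveILetI false

universe u

open CategoryTheory Limits AlgebraicGeometry TopologicalSpace Opposite TensorProduct
open scoped HomogeneousIdeal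

namespace Groth.Agent.Hyperplane18

variable {A σ : Type u} [CommRing A] [SetLike σ A] [AddSubgroupClass σ A] {𝒜 : ℕ → σ} [GradedRing 𝒜]
  {B τ : Type u} [CommRing B] [SetLike τ B] [AddSubgroupClass τ B] {ℬ : ℕ → τ} [GradedRing ℬ]
  (ψ : 𝒜 →+*ᵍ ℬ) (hψ : ℬ₊ ≤ (𝒜₊).map ψ)

/-- The generator `f / 1` of `O(1)` on `D₊(f)`. -/
noncomputable def gen {f : A} (hf : f ∈ 𝒜 1) : Γ(GrTwist.twist 𝒜 1, Proj.basicOpen 𝒜 f) :=
  GrTw11.frac 𝒜 _ hf SetLike.GradedOne.one_mem (by simp) fun _ _ => GrTw11.one_notMem_prime 𝒜 _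

theorem val_gen {f : A} (hf : f ∈ 𝒜 1) (x : ProjectiveSpectrum 𝒜) (hx : x ∈ Proj.basicOpen 𝒜 f) :
    GrTw11.val (n := (1 : ℤ)) (gen hf) x hx = Localization.mk f ⟨1, GrTw11.one_notMem_prime 𝒜 x⟩ := rfl

theorem bijective_smul_gen {f : A} (hf : f ∈ 𝒜 1) :
    Function.Bijective fun r : Γ(Proj 𝒜, Proj.basicOpen 𝒜 f) => r • gen hf := by
  have h := GrTw11.bijective_smul_of_inverse (n := (1 : ℤ)) (U := Proj.basicOpen 𝒜 f) (gen hf)
    (GrTw11.frac 𝒜 _ SetLike.GradedOne.one_mem hf (by simp) le_rfl) (fun x hx => by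
      rw [val_gen]
      exact GrTw11.mk_eq_iff 𝒜 _ _ |>.2 ⟨1, GrTw11.one_notMem_prime 𝒜 x, by simp⟩ |>.trans
        Localization.mk_one) _ le_rfl
  simpa only [Groth.Agent.M1.mres_id] using h

theorem sect_gen {f : A} (hf : f ∈ 𝒜 1) :
    M1.mres (GrTwist.twist ℬ 1) (PullBC11.hle_basic ψ hψ) ((GrTwist.comap ψ hψ 1).app (Proj.basicOpen 𝒜 f) (gen hf)) =
      gen (ψ.map_mem hf) := by
  refine GrTw11.sec_ext fun y hy => ?_
  refine (PullBC11.val_sect_comap ψ hψ (PullBC11.hle_basic ψ hψ) (gen hf) y hy).trans ?_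
  rw [val_gen, val_gen, GrTwist.locMap_mk]
  exact GrTw11.mk_eq_iff ℬ _ _ |>.2 ⟨1, GrTw11.one_notMem_prime ℬ y, by simp⟩

theorem isBC_deg_one {f : A} (hf : f ∈ 𝒜 1) :
    PullBC11.IsBC (GrTwist.comap ψ hψ 1) (PullBC11.hle_basic ψ hψ (h := f)) := by
  refine PullBC11.isBC_of _ _ (fun t => ?_) ?_
  · obtain ⟨r, rfl⟩ := (bijective_smul_gen (ψ.map_mem hf)).2 t
    exact Submodule.smul_mem _ r (Submodule.subset_span ⟨gen hf, sect_gen ψ hψ hf⟩)
  · letI := ((Proj.map ψ hψ).appLE (Proj.basicOpen 𝒜 f) (Proj.basicOpen ℬ (ψ f)) (PullBC11.hle_basic ψ hψ)).hom.toAlgebra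
    letI := PullBC11.baseModule (g := Proj.map ψ hψ) (GrTwist.twist ℬ 1) (PullBC11.hle_basic ψ hψ (h := f))
    haveI : IsScalarTower Γ(Proj 𝒜, Proj.basicOpen 𝒜 f) Γ(Proj ℬ, Proj.basicOpen ℬ (ψ f))
        Γ(GrTwist.twist ℬ 1, Proj.basicOpen ℬ (ψ f)) := IsScalarTower.of_algebraMap_smul fun _ _ => rfl
    intro z hz
    obtain ⟨b, rfl⟩ : ∃ b : Γ(Proj ℬ, Proj.basicOpen ℬ (ψ f)), z = b ⊗ₜ gen hf := by
      clear hz
      induction z using TensorProduct.induction_on with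
      | zero => exact ⟨0, (TensorProduct.zero_tmul _ _).symm⟩
      | tmul b m =>
        obtain ⟨a, rfl⟩ := (bijective_smul_gen hf).2 m
        exact ⟨a • b, (TensorProduct.smul_tmul a b (gen hf)).symm⟩
      | add z w hz hw =>
        obtain ⟨b, rfl⟩ := hz
        obtain ⟨b', rfl⟩ := hw
        exact ⟨b + b', (TensorProduct.add_tmul _ _ _).symm⟩
    rw [LinearMap.liftBaseChange_tmul] at hz
    have h0 : b • gen (ψ.map_mem hf) = (0 : Γ(Proj ℬ, Proj.basicOpen ℬ (ψ f))) • gen (ψ.map_mem hf) := by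
      rw [zero_smul, ← sect_gen ψ hψ hf]
      exact hz
    rw [(bijective_smul_gen (ψ.map_mem hf)).1 h0, TensorProduct.zero_tmul]

/-- `ψ^* O(1) ≅ O(1)`. -/
theorem nonempty_pullback_twist_one (hcov : (⨆ f : 𝒜 1, Proj.basicOpen 𝒜 (f : A)) = ⊤) :
    Nonempty ((Scheme.Modules.pullback (Proj.map ψ hψ)).obj (GrTwist.twist 𝒜 1) ≅ GrTwist.twist ℬ 1) := by
  haveI := PullBC11.isIso_of_isBC (GrTwist.comap ψ hψ 1) (GrTw11.isQCoh_twist' 𝒜 1) (GrTw11.isQCoh_twist' ℬ 1)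
    fun y => by
      have hy : ProjectiveSpectrum.comap ψ hψ y ∈ (⨆ f : 𝒜 1, Proj.basicOpen 𝒜 (f : A)) := by
        rw [hcov]; trivial
      obtain ⟨⟨g, hg⟩, hy⟩ := TopologicalSpace.Opens.mem_iSup.1 hy
      exact ⟨Proj.basicOpen 𝒜 g, Proj.isAffineOpen_basicOpen 𝒜 g hg Nat.one_pos, Proj.basicOpen ℬ (ψ g),
        Proj.isAffineOpen_basicOpen ℬ (ψ g) (ψ.map_mem hg) Nat.one_pos, PullBC11.hle_basic ψ hψ, hy,
        isBC_deg_one ψ hψ hg⟩
  exact ⟨asIso (((Scheme.Modules.pullbackPushforwardAdjunction (Proj.map ψ hψ)).homEquiv _ _).symm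
    (GrTwist.comap ψ hψ 1))⟩

end Groth.Agent.Hyperplane18
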